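import Cfsg.Agent.H90.X.ModelRad2

-- helper90: verbatim copy of `Cfsg.Agent.H29.ModelNorm` under the namespace `Cfsg.Agent.H90.X.MS`, built on
-- helper31's copy `Cfsg.Agent.H31.X.CharP2` (so that it can be loaded together with
-- `Cfsg.Agent.H29.ThompsonInt`, which declares the same name `Cfsg.Agent.H29.map_symm_map` as
-- `Cfsg.Agent.H29.Transport`).

set_option autoImplicit false
set_option maxHeartbeats 1600000

/-!
Section-freeness passes to the normalizer system of a fully normalized subgroup.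
-/

namespace Cfsg.Agent.H90.X.MS

open Cfsg Cfsg.FusionSystem Cfsg.Agent.H86 Cfsg.Agent.H88

theorem normalizer_inf_le_normalizer_sup {G : Type*} [Group G] {A B : Subgroup G} {s : G}
    (hA : s ∈ Subgroup.normalizer (A : Set G)) (hB : s ∈ Subgroup.normalizer (B : Set G)) :
    s ∈ Subgroup.normalizer ((A ⊔ B : Subgroup G) : Set G) := by
  have key : ∀ s : G, s ∈ Subgroup.normalizer (A : Set G) → s ∈ Subgroup.normalizer (B : Set G) →
      ∀ x ∈ A ⊔ B, s * x * s⁻¹ ∈ A ⊔ B := by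
    intro s hA hB x hx
    have h1 : s * x * s⁻¹ ∈ (A ⊔ B).map (MulAut.conj s).toMonoidHom :=
      Subgroup.mem_map.2 ⟨x, hx, rfl⟩
    rw [Subgroup.map_sup] at h1
    have h2 : A.map (MulAut.conj s).toMonoidHom ⊔ B.map (MulAut.conj s).toMonoidHom ≤ A ⊔ B := by
      refine sup_le_sup ?_ ?_
      · rintro _ ⟨a, ha, rfl⟩
        exact (Subgroup.mem_normalizer_iff.1 hA a).1 ha
      · rintro _ ⟨a, ha, rfl⟩
        exact (Subgroup.mem_normalizer_iff.1 hB a).1 ha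
    exact h2 h1
  rw [Subgroup.mem_normalizer_iff]
  intro x
  refine ⟨key s hA hB x, fun hx => ?_⟩
  have := key s⁻¹ (Subgroup.inv_mem _ hA) (Subgroup.inv_mem _ hB) _ hx
  simpa [mul_assoc] using this

universe u

variable {Ω : Type u} [Group Ω] {S : Subgroup Ω}

/-- If `R` is centric in the normalizer system of the fully normalized subgroup `U`, then `RU` is
centric in `F`. -/
theorem centric_sup_of_normalizer [Finite S] {p : ℕ} [Fact p.Prime] (hS : IsPGroup p S)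
    {F : FusionSystem S} (hF : F.IsSaturated p) {U : Subgroup Ω} (hU : F.IsFullyNormalized U)
    {N : FusionSystem (normalizerIn S U)} (hN : F.IsNormalizerSystem U N) {R : Subgroup Ω}
    (hR : N.IsCentric R) : F.IsCentric (R ⊔ U) := by
  have hUS : U ≤ S := hU.1
  have hS₁S : normalizerIn S U ≤ S := inf_le_left
  have hRS₁ : R ≤ normalizerIn S U := hR.1
  have hRS : R ≤ S := hRS₁.trans hS₁S
  refine ⟨sup_le hRS hUS, fun V hV => ?_⟩
  obtain ⟨ψ, hψ, rfl⟩ := isConj_iff.1 hV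
  have hψU : Mor F U ψ := hψ.restrict le_sup_right
  have hψR : Mor F R ψ := hψ.restrict le_sup_left
  have hconj : F.IsConj (imgS U ψ) U := isConj_symm (isConj_iff.2 ⟨ψ, hψU, rfl⟩)
  obtain ⟨hfc, hfa⟩ := saturated_fullyNormalized hS hF hU
  have hrec := saturated_receptive_of_fullyCentralized hS hF hfc
  obtain ⟨χ₂, hχ₂, hχ₂maps, hχ₂img⟩ := exists_normalizer_map hS hfa hrec hconj
  have hRUn : R ⊔ U ≤ Subgroup.normalizer (U : Set Ω) :=
    sup_le (hRS₁.trans inf_le_right) Subgroup.le_normalizer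
  have hVN : ∀ x ∈ R ⊔ U, ψ x ∈ normalizerIn S (imgS U ψ) := fun x hx =>
    mem_normalizerIn_iff.2 ⟨hψ.mem hx, hψ.mem_normalizer_imgS le_sup_right hRUn hx⟩
  have hcomp : Mor F (R ⊔ U) (χ₂ ∘ ψ) := hψ.comp hχ₂ hVN
  have himgU : imgS U (χ₂ ∘ ψ) = U := by
    rw [hψU.imgS_comp hχ₂ (fun x hx => hVN x (Subgroup.mem_sup_right hx))]
    exact hχ₂img
  have hNmor : Mor N R (χ₂ ∘ ψ) := (mor_normalizerSystem_iff hN).2
    ⟨hRS₁, fun x hx => hχ₂maps _ (hVN x (Subgroup.mem_sup_left hx)), χ₂ ∘ ψ, hcomp,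
      fun _ _ => rfl, himgU⟩
  have hcen := hR.2 (imgS R (χ₂ ∘ ψ)) (isConj_iff.2 ⟨χ₂ ∘ ψ, hNmor, rfl⟩)
  intro c hc
  obtain ⟨hcS, hcc⟩ := mem_centralizerIn_iff.1 hc
  have hcN : c ∈ normalizerIn S (imgS U ψ) := by
    rw [mem_normalizerIn_iff]
    refine ⟨hcS, ?_⟩
    have hUV : imgS U ψ ≤ imgS (R ⊔ U) ψ := hψ.imgS_mono le_sup_right
    refine mem_normalizer_of_forall_conj_mem (fun y hy => ?_) (fun y hy => ?_)
    · have := hcc y (hUV hy)
      rw [← this, mul_inv_cancel_right]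
      exact hy
    · have := hcc y (hUV hy)
      rw [mul_assoc, this, inv_mul_cancel_left]
      exact hy
  have h1 : χ₂ c ∈ centralizerIn (normalizerIn S U) (imgS R (χ₂ ∘ ψ)) := by
    rw [mem_centralizerIn_iff]
    refine ⟨hχ₂maps c hcN, fun y hy => ?_⟩
    obtain ⟨x, hx, rfl⟩ := (hcomp.restrict le_sup_left).mem_imgS.1 hy
    have hxV : ψ x ∈ imgS (R ⊔ U) ψ := hψ.mem_imgS_of_mem (Subgroup.mem_sup_left hx)
    have hxN := hVN x (Subgroup.mem_sup_left hx)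
    have := hcc _ hxV
    show χ₂ (ψ x) * χ₂ c = χ₂ c * χ₂ (ψ x)
    rw [← hχ₂.map_mul hxN hcN, ← hχ₂.map_mul hcN hxN, this]
  obtain ⟨x, hx, hxc⟩ := (hcomp.restrict le_sup_left).mem_imgS.1 (hcen h1)
  have hxN := hVN x (Subgroup.mem_sup_left hx)
  have : ψ x = c := hχ₂.injOn hxN hcN hxc
  rw [← this]
  exact hψ.mem_imgS_of_mem (Subgroup.mem_sup_left hx)

theorem normalizer_sectionFree [Finite S] {p : ℕ} [Fact p.Prime] (hS : IsPGroup p S)
    {F : FusionSystem S} (hF : F.IsSaturated p) {H : Type*} [Group H]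
    (hfree : F.IsSectionFree p H) {U : Subgroup Ω} (hU : F.IsFullyNormalized U)
    {N : FusionSystem (normalizerIn S U)} (hN : F.IsNormalizerSystem U N) :
    N.IsSectionFree p H := by
  intro R hRfn hRc N' hN' L _ ι hL
  have hUS : U ≤ S := hU.1
  have hS₁S : normalizerIn S U ≤ S := inf_le_left
  have hRS₁ : R ≤ normalizerIn S U := hRc.1
  have hRS : R ≤ S := hRS₁.trans hS₁S
  have hTS₁ : normalizerIn (normalizerIn S U) R ≤ normalizerIn S U := inf_le_left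
  have hTS : normalizerIn (normalizerIn S U) R ≤ S := hTS₁.trans hS₁S
  have hfinS₁ : Finite ↥(normalizerIn S U) := finite_of_le hS₁S
  have hfinT : Finite ↥(normalizerIn (normalizerIn S U) R) := finite_of_le hTS
  have hTp : IsPGroup p ↥(normalizerIn (normalizerIn S U) R) := hS.to_le hTS
  have hTA₁ : normalizerIn (normalizerIn S U) R ≤ Subgroup.normalizer (R : Set Ω) := inf_le_right
  have hTA₂ : normalizerIn (normalizerIn S U) R ≤ Subgroup.normalizer (U : Set Ω) :=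
    hTS₁.trans inf_le_right
  have hA₁₂ : R ≤ Subgroup.normalizer (U : Set Ω) := hRS₁.trans inf_le_right
  have hTN : normalizerIn (normalizerIn S U) R ≤ normalizerIn S (R ⊔ U) := fun s hs =>
    mem_normalizerIn_iff.2 ⟨hTS hs, normalizer_inf_le_normalizer_sup (hTA₁ hs) (hTA₂ hs)⟩
  have hRUS : R ⊔ U ≤ S := sup_le hRS hUS
  obtain ⟨χ, hχ, hB₁fn⟩ := exists_fn_map hS hF hRUS
  have hRUN : R ⊔ U ≤ normalizerIn S (R ⊔ U) := le_normalizerIn hRUS
  have hχRU : Mor F (R ⊔ U) χ := hχ.restrict hRUN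
  have hB₁c : F.IsCentric (imgS (R ⊔ U) χ) :=
    centric_imgS (centric_sup_of_normalizer hS hF hU hN hRc) hχRU
  have hB₁S : imgS (R ⊔ U) χ ≤ S := hB₁c.1
  have hE₁ := Cfsg.Agent.H89.normalizerSystem_isNormalizerSystem F _ hB₁S
  have hE₁sat := normalizerSystem_saturated hS hF hB₁fn _ hE₁
  have hT₁S : normalizerIn S (imgS (R ⊔ U) χ) ≤ S := inf_le_left
  have hfinT₁ : Finite ↥(normalizerIn S (imgS (R ⊔ U) χ)) := finite_of_le hT₁S
  obtain ⟨L₁, _, ι₁, hL₁, -, -⟩ := Cfsg.Agent.H90.exists_model (hS.to_le hT₁S) hE₁sat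
    (normalizerSystem_isNormal hB₁S hE₁) (normalizerSystem_isCentric hB₁c hE₁)
  have hfree₁ : ¬ Involves H L₁ := hfree _ hB₁fn hB₁c _ hE₁ L₁ ι₁ hL₁
  -- the description of `N'`
  have hE : ∀ (P : Subgroup Ω) (f : Ω → Ω), Mor N' P f ↔
      P ≤ normalizerIn (normalizerIn S U) R ∧
      (∀ x ∈ P, f x ∈ normalizerIn (normalizerIn S U) R) ∧
      ∃ f', Mor F (P ⊔ (R ⊔ U)) f' ∧ (∀ x ∈ P, f' x = f x) ∧ imgS R f' = R ∧ imgS U f' = U := by
    intro P f
    constructor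
    · intro hf
      obtain ⟨hP, hfT, f₁, hf₁, hf₁f, hf₁R⟩ := (mor_normalizerSystem_iff hN').1 hf
      obtain ⟨-, -, f₂, hf₂, hf₂f₁, hf₂U⟩ := (mor_normalizerSystem_iff hN).1 hf₁
      have hf₂' : Mor F (P ⊔ (R ⊔ U)) f₂ := by
        rw [← sup_assoc]
        exact hf₂
      refine ⟨hP, hfT, f₂, hf₂', fun x hx => (hf₂f₁ x (Subgroup.mem_sup_left hx)).trans (hf₁f x hx),
        ?_, hf₂U⟩
      exact (Mor.imgS_congr (hf₂.restrict (le_sup_right.trans le_sup_left))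
        (fun x hx => hf₂f₁ x (Subgroup.mem_sup_right hx))).trans hf₁R
    · rintro ⟨hPT, hfT, f', hf', hf'f, hf'R, hf'U⟩
      have hf'₂ : Mor F ((P ⊔ R) ⊔ U) f' := by
        rw [sup_assoc]
        exact hf'
      have hPRS₁ : P ⊔ R ≤ normalizerIn S U := sup_le (hPT.trans hTS₁) hRS₁
      have hf'PR : Mor F (P ⊔ R) f' := hf'₂.restrict le_sup_left
      have hvals : ∀ x ∈ P ⊔ R, f' x ∈ normalizerIn S U := by
        intro x hx
        have h1 := hf'PR.mem_imgS_of_mem hx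
        rw [hf'PR.imgS_sup, hf'R] at h1
        refine (sup_le ?_ hRS₁) h1
        intro y hy
        obtain ⟨z, hz, rfl⟩ := (hf'PR.restrict le_sup_left).mem_imgS.1 hy
        rw [hf'f z hz]
        exact hTS₁ (hfT z hz)
      exact (mor_normalizerSystem_iff hN').2 ⟨hPT, hfT, f',
        (mor_normalizerSystem_iff hN).2 ⟨hPRS₁, hvals, f', hf'₂, fun _ _ => rfl, hf'U⟩, hf'f, hf'R⟩
  -- the Sylow condition
  have hSyl : ∀ θ : Ω → Ω, Mor F (imgS (R ⊔ U) χ) θ →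
      imgS (imgS (R ⊔ U) χ) θ = imgS (R ⊔ U) χ →
      ∀ Y : Subgroup Ω, Y ≤ normalizerIn S (imgS (R ⊔ U) χ) →
        Y ≤ Subgroup.normalizer ((imgS (imgS R χ) θ : Subgroup Ω) : Set Ω) →
        Y ≤ Subgroup.normalizer ((imgS (imgS U χ) θ : Subgroup Ω) : Set Ω) →
        Nat.card Y ≤ Nat.card ↥(normalizerIn (normalizerIn S U) R) := by
    intro θ hθ _ Y hYT₁ hYn₁ hYn₂
    have hmaps : ∀ x ∈ R ⊔ U, χ x ∈ imgS (R ⊔ U) χ := fun x hx => hχRU.mem_imgS_of_mem hx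
    have hψ : Mor F (R ⊔ U) (θ ∘ χ) := hχRU.comp hθ hmaps
    have hψU : Mor F U (θ ∘ χ) := hψ.restrict le_sup_right
    have hψR : Mor F R (θ ∘ χ) := hψ.restrict le_sup_left
    have hRimg : imgS R (θ ∘ χ) = imgS (imgS R χ) θ :=
      (hχRU.restrict le_sup_left).imgS_comp hθ (fun x hx => hmaps x (Subgroup.mem_sup_left hx))
    have hUimg : imgS U (θ ∘ χ) = imgS (imgS U χ) θ :=
      (hχRU.restrict le_sup_right).imgS_comp hθ (fun x hx => hmaps x (Subgroup.mem_sup_right hx))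
    rw [← hRimg] at hYn₁
    rw [← hUimg] at hYn₂
    have hconj : F.IsConj (imgS U (θ ∘ χ)) U := isConj_symm (isConj_iff.2 ⟨θ ∘ χ, hψU, rfl⟩)
    obtain ⟨hfc, hfa⟩ := saturated_fullyNormalized hS hF hU
    have hrec := saturated_receptive_of_fullyCentralized hS hF hfc
    obtain ⟨χ₂, hχ₂, hχ₂maps, hχ₂img⟩ := exists_normalizer_map hS hfa hrec hconj
    have hRUn : R ⊔ U ≤ Subgroup.normalizer (U : Set Ω) := sup_le hA₁₂ Subgroup.le_normalizer
    have hVN : ∀ x ∈ R ⊔ U, (θ ∘ χ) x ∈ normalizerIn S (imgS U (θ ∘ χ)) := fun x hx =>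
      mem_normalizerIn_iff.2 ⟨hψ.mem hx, hψ.mem_normalizer_imgS le_sup_right hRUn hx⟩
    have hcomp : Mor F (R ⊔ U) (χ₂ ∘ (θ ∘ χ)) := hψ.comp hχ₂ hVN
    have himgU : imgS U (χ₂ ∘ (θ ∘ χ)) = U := by
      rw [hψU.imgS_comp hχ₂ (fun x hx => hVN x (Subgroup.mem_sup_right hx))]
      exact hχ₂img
    have hNmor : Mor N R (χ₂ ∘ (θ ∘ χ)) := (mor_normalizerSystem_iff hN).2
      ⟨hRS₁, fun x hx => hχ₂maps _ (hVN x (Subgroup.mem_sup_left hx)), χ₂ ∘ (θ ∘ χ), hcomp,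
        fun _ _ => rfl, himgU⟩
    have h1 := hRfn.2 _ (isConj_iff.2 ⟨χ₂ ∘ (θ ∘ χ), hNmor, rfl⟩)
    have hYN : Y ≤ normalizerIn S (imgS U (θ ∘ χ)) := fun y hy =>
      mem_normalizerIn_iff.2 ⟨hT₁S (hYT₁ hy), hYn₂ hy⟩
    have hχ₂Y : Mor F Y χ₂ := hχ₂.restrict hYN
    have hR''N : imgS R (θ ∘ χ) ≤ normalizerIn S (imgS U (θ ∘ χ)) := by
      intro y hy
      obtain ⟨x, hx, rfl⟩ := hψR.mem_imgS.1 hy
      exact hVN x (Subgroup.mem_sup_left hx)
    have h2 : imgS Y χ₂ ≤ normalizerIn (normalizerIn S U) (imgS R (χ₂ ∘ (θ ∘ χ))) := by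
      intro z hz
      obtain ⟨y, hy, rfl⟩ := hχ₂Y.mem_imgS.1 hz
      rw [mem_normalizerIn_iff]
      refine ⟨hχ₂maps y (hYN hy), ?_⟩
      rw [hψR.imgS_comp hχ₂ (fun x hx => hVN x (Subgroup.mem_sup_left hx))]
      have hsupN : imgS R (θ ∘ χ) ⊔ Y ≤ normalizerIn S (imgS U (θ ∘ χ)) := sup_le hR''N hYN
      have hsupn : imgS R (θ ∘ χ) ⊔ Y ≤
          Subgroup.normalizer ((imgS R (θ ∘ χ) : Subgroup Ω) : Set Ω) :=
        sup_le Subgroup.le_normalizer hYn₁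
      exact (hχ₂.restrict hsupN).mem_normalizer_imgS le_sup_left hsupn (Subgroup.mem_sup_right hy)
    have hfin : Finite ↥(normalizerIn (normalizerIn S U) (imgS R (χ₂ ∘ (θ ∘ χ)))) :=
      finite_of_le (S := S) (inf_le_left.trans hS₁S)
    calc Nat.card Y = Nat.card ↥(imgS Y χ₂) := hχ₂Y.card_imgS.symm
      _ ≤ Nat.card ↥(normalizerIn (normalizerIn S U) (imgS R (χ₂ ∘ (θ ∘ χ)))) :=
          Subgroup.card_le_of_le h2
      _ ≤ _ := h1
  obtain ⟨M, ι', hM⟩ := submodel hS hRS hUS hTN hTA₁ hTA₂ hA₁₂ hχ hB₁c hE₁ hL₁ hE hSyl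
  exact not_involves_of_models hTp hM hfree₁ hL

end Cfsg.Agent.H90.X.MS
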